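import Mathlib

/-!
# A presentation of order at most 320

Generators `a, y` with `y⁵ = (ay)⁵ = 1`, and `a²`, `[a, a^y]`, `[a, a^{y²}]` central of order at
most 2.  Such a group has order at most 320, and two groups of order 320 generated by such pairs are
isomorphic.
-/

set_option autoImplicit false

namespace Cfsg.Agent.Lib.H1903

section basics

variable {Q : Type*} [Group Q]

/-- The commutator, as a plain function. -/
def cm (u v : Q) : Q := u * v * u⁻¹ * v⁻¹

/-- `[a, a^y]`. -/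
def bB (a y : Q) : Q := cm a (y * a * y⁻¹)

/-- `[a, a^{y²}]`. -/
def cC (a y : Q) : Q := cm a (y * (y * a * y⁻¹) * y⁻¹)

/-- The relations. -/
structure Rel (a y : Q) : Prop where
  y5 : y ^ 5 = 1
  ay5 : (a * y) ^ 5 = 1
  Ay : (a * a) * y = y * (a * a)
  AA : (a * a) * (a * a) = 1
  Ba : bB a y * a = a * bB a y
  By : bB a y * y = y * bB a y
  BB : bB a y * bB a y = 1
  Ca : cC a y * a = a * cC a y
  Cy : cC a y * y = y * cC a y
  CC : cC a y * cC a y = 1

lemma map_cm {X : Type*} [Group X] (f : Q →* X) (u v : Q) : f (cm u v) = cm (f u) (f v) := by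
  simp [cm, map_mul, map_inv]

lemma map_bB {X : Type*} [Group X] (f : Q →* X) (a y : Q) : f (bB a y) = bB (f a) (f y) := by
  simp [bB, map_cm, map_mul, map_inv]

lemma map_cC {X : Type*} [Group X] (f : Q →* X) (a y : Q) : f (cC a y) = cC (f a) (f y) := by
  simp [cC, map_cm, map_mul, map_inv]

/-- Relations pass to a group that embeds jointly. -/
lemma rel_of_joint {X Y : Type*} [Group X] [Group Y] (f : Q →* X) (g : Q →* Y)
    (hj : ∀ p q, f p = f q → g p = g q → p = q) {a y : Q}
    (h1 : Rel (f a) (f y)) (h2 : Rel (g a) (g y)) : Rel a y where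
  y5 := hj _ _ (by simpa using h1.y5) (by simpa using h2.y5)
  ay5 := hj _ _ (by simpa using h1.ay5) (by simpa using h2.ay5)
  Ay := hj _ _ (by simpa using h1.Ay) (by simpa using h2.Ay)
  AA := hj _ _ (by simpa using h1.AA) (by simpa using h2.AA)
  Ba := hj _ _ (by simpa [map_bB] using h1.Ba) (by simpa [map_bB] using h2.Ba)
  By := hj _ _ (by simpa [map_bB] using h1.By) (by simpa [map_bB] using h2.By)
  BB := hj _ _ (by simpa [map_bB] using h1.BB) (by simpa [map_bB] using h2.BB)
  Ca := hj _ _ (by simpa [map_cC] using h1.Ca) (by simpa [map_cC] using h2.Ca)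
  Cy := hj _ _ (by simpa [map_cC] using h1.Cy) (by simpa [map_cC] using h2.Cy)
  CC := hj _ _ (by simpa [map_cC] using h1.CC) (by simpa [map_cC] using h2.CC)

/-- One step of the chain. -/
lemma card_sup_le [Finite Q] (T : Subgroup Q) (g : Q) (n : ℕ) (hn : 0 < n) (hg : g ^ n ∈ T)
    (hnorm : ∀ t ∈ T, g * t * g⁻¹ ∈ T) :
    Nat.card ↥(T ⊔ Subgroup.zpowers g) ≤ n * Nat.card T := by
  have hgn : g ∈ Subgroup.normalizer (T : Set Q) := by
    rw [Subgroup.mem_normalizer_iff]
    intro h
    refine ⟨fun hh => hnorm h hh, fun hh => ?_⟩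
    let φ : T → T := fun t => ⟨g * t * g⁻¹, hnorm t t.2⟩
    have hφ : Function.Injective φ := by
      intro s t hst
      have : g * (s : Q) * g⁻¹ = g * (t : Q) * g⁻¹ := congrArg Subtype.val hst
      exact Subtype.ext (by simpa using this)
    obtain ⟨t, ht⟩ := (Finite.injective_iff_surjective.mp hφ) ⟨g * h * g⁻¹, hh⟩
    have : g * (t : Q) * g⁻¹ = g * h * g⁻¹ := congrArg Subtype.val ht
    have ht' : (t : Q) = h := by simpa using this
    rw [← ht']
    exact t.2
  have hle : Subgroup.zpowers g ≤ Subgroup.normalizer (T : Set Q) :=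
    (Subgroup.zpowers_le).mpr hgn
  have hs := Subgroup.coe_mul_of_left_le_normalizer_right (Subgroup.zpowers g) T hle
  have hmem : ∀ k : ℕ, ∀ t ∈ T, g ^ k * t ∈ T ⊔ Subgroup.zpowers g := fun k t ht =>
    Subgroup.mul_mem _
      ((le_sup_right : Subgroup.zpowers g ≤ T ⊔ Subgroup.zpowers g)
        (Subgroup.npow_mem_zpowers g k))
      ((le_sup_left : T ≤ T ⊔ Subgroup.zpowers g) ht)
  let f : Fin n × T → ↥(T ⊔ Subgroup.zpowers g) := fun p =>
    ⟨g ^ (p.1 : ℕ) * (p.2 : Q), hmem _ _ p.2.2⟩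
  have hf : Function.Surjective f := by
    rintro ⟨x, hx⟩
    have hx' : x ∈ ((Subgroup.zpowers g ⊔ T : Subgroup Q) : Set Q) := by
      rw [sup_comm]; exact hx
    rw [hs] at hx'
    obtain ⟨u, hu, t, ht, rfl⟩ := Set.mem_mul.mp hx'
    obtain ⟨m, rfl⟩ := Subgroup.mem_zpowers_iff.mp hu
    have hn' : (n : ℤ) ≠ 0 := by exact_mod_cast hn.ne'
    have hr0 : 0 ≤ m % (n : ℤ) := Int.emod_nonneg _ hn'
    have hr1 : m % (n : ℤ) < n := Int.emod_lt_of_pos _ (by exact_mod_cast hn)
    obtain ⟨r, hr⟩ := Int.eq_ofNat_of_zero_le hr0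
    have hrn : r < n := by rw [hr] at hr1; exact_mod_cast hr1
    have hm : m = (r : ℤ) + n * (m / n) := by
      rw [← hr]; exact (Int.emod_add_mul_ediv m n).symm
    have hq : g ^ ((n : ℤ) * (m / n)) ∈ T := by
      rw [zpow_mul]
      exact Subgroup.zpow_mem _ (by simpa using hg) _
    refine ⟨(⟨r, hrn⟩, ⟨g ^ ((n : ℤ) * (m / n)) * t, T.mul_mem hq ht⟩), ?_⟩
    apply Subtype.ext
    change g ^ r * (g ^ ((n : ℤ) * (m / n)) * t) = g ^ m * t
    rw [← mul_assoc]
    congr 1
    conv_rhs => rw [hm, zpow_add, zpow_natCast]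
  calc Nat.card ↥(T ⊔ Subgroup.zpowers g) ≤ Nat.card (Fin n × T) :=
        Nat.card_le_card_of_surjective f hf
    _ = n * Nat.card T := by simp [Nat.card_prod]

/-- Invariance under conjugation passes to a join with a cyclic group. -/
lemma conj_sup_mem (h : Q) (T U : Subgroup Q) (g : Q) (hT : ∀ t ∈ T, h * t * h⁻¹ ∈ U)
    (hg : h * g * h⁻¹ ∈ U) : ∀ t ∈ T ⊔ Subgroup.zpowers g, h * t * h⁻¹ ∈ U := by
  have : T ⊔ Subgroup.zpowers g ≤ U.comap (MulAut.conj h).toMonoidHom := by
    rw [sup_le_iff]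
    constructor
    · intro t ht
      simpa using hT t ht
    · rw [Subgroup.zpowers_le]
      simpa using hg
  intro t ht
  simpa using this ht

lemma sq_mul_central (p q : Q) (hc : ∀ g : Q, cm q p * g = g * cm q p) :
    (p * q) * (p * q) = (p * p) * (q * q) * cm q p := by
  have h : q * p = cm q p * (p * q) := by simp [cm, mul_assoc]
  calc (p * q) * (p * q) = p * (q * p) * q := by group
    _ = p * (cm q p * (p * q)) * q := by rw [h]
    _ = (p * cm q p) * p * q * q := by group
    _ = (cm q p * p) * p * q * q := by rw [hc p]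
    _ = cm q p * (p * p * (q * q)) := by group
    _ = (p * p) * (q * q) * cm q p := hc _

lemma cm_mul_left (p q v : Q) (hc : ∀ g : Q, cm q v * g = g * cm q v) :
    cm (p * q) v = cm p v * cm q v := by
  have h : cm (p * q) v = p * cm q v * v * p⁻¹ * v⁻¹ := by
    simp only [cm]; group
  rw [h, ← hc p]
  have e : cm q v * p * v * p⁻¹ * v⁻¹ = cm q v * cm p v := by simp only [cm]; group
  rw [e, hc (cm p v)]

lemma cm_symm (u v z : Q) (h : cm u v = z) (hz : z * z = 1) : cm v u = z := by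
  have h1 : cm v u = (cm u v)⁻¹ := by simp only [cm]; group
  rw [h1, h]
  exact inv_eq_of_mul_eq_one_left hz

lemma cm_conj (y u v : Q) : cm (y * u * y⁻¹) (y * v * y⁻¹) = y * cm u v * y⁻¹ := by
  simp only [cm]; group

/-- The identity `ABC = 1`, from the fact that the product of the five conjugates is trivial. -/
lemma abc (a0 a1 a2 a3 a4 A B C : Q) (hBc : ∀ g : Q, B * g = g * B)
    (hCc : ∀ g : Q, C * g = g * C) (hA : A * A = 1) (hB : B * B = 1) (hC : C * C = 1)
    (s0 : a0 * a0 = A) (s1 : a1 * a1 = A) (s2 : a2 * a2 = A) (s3 : a3 * a3 = A) (s4 : a4 * a4 = A)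
    (c10 : cm a1 a0 = B) (c20 : cm a2 a0 = C) (c30 : cm a3 a0 = C) (c21 : cm a2 a1 = B)
    (c31 : cm a3 a1 = C) (c32 : cm a3 a2 = B)
    (w : a0 * a1 * a2 * a3 * a4 = 1) : A * B * C = 1 := by
  -- the square of `u = a0 a1 a2 a3`
  have hu : a4 = (a0 * a1 * a2 * a3)⁻¹ := eq_inv_of_mul_eq_one_right w
  have h1 : (a0 * a1 * a2 * a3) * (a0 * a1 * a2 * a3) = A := by
    have e : (a0 * a1 * a2 * a3) * (a0 * a1 * a2 * a3) = (a4 * a4)⁻¹ := by
      rw [hu]; group
    rw [e, s4]
    exact inv_eq_of_mul_eq_one_left hA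
  -- expand
  have c23' : ∀ g : Q, cm a3 a2 * g = g * cm a3 a2 := by rw [c32]; exact hBc
  have e23 : (a2 * a3) * (a2 * a3) = B := by
    rw [sq_mul_central a2 a3 c23', s2, s3, hA, one_mul, c32]
  have c230 : cm (a2 * a3) a1 = B * C := by
    rw [cm_mul_left a2 a3 a1 (by rw [c31]; exact hCc), c21, c31]
  have c1230 : cm (a1 * (a2 * a3)) a0 = B := by
    rw [cm_mul_left a1 (a2 * a3) a0 (by
      rw [cm_mul_left a2 a3 a0 (by rw [c30]; exact hCc), c20, c30, hC]
      simp), cm_mul_left a2 a3 a0 (by rw [c30]; exact hCc), c10, c20, c30, hC, mul_one]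
  have e123 : (a1 * (a2 * a3)) * (a1 * (a2 * a3)) = A * B * (B * C) := by
    rw [sq_mul_central a1 (a2 * a3) (by rw [c230]; intro g; rw [mul_assoc, hCc g, ← mul_assoc,
      hBc g, mul_assoc]), s1, e23, c230]
  have e0123 : (a0 * (a1 * (a2 * a3))) * (a0 * (a1 * (a2 * a3))) = A * (A * B * (B * C)) * B := by
    rw [sq_mul_central a0 (a1 * (a2 * a3)) (by rw [c1230]; exact hBc), s0, e123, c1230]
  have e2 : a0 * a1 * a2 * a3 = a0 * (a1 * (a2 * a3)) := by group
  rw [e2, e0123] at h1
  -- simplify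
  have h3 : A * (A * B * (B * C)) * B = C * B := by
    have : A * (A * B * (B * C)) * B = (A * A) * (B * B) * C * B := by group
    rw [this, hA, hB]; simp
  rw [h3] at h1
  -- `C B = A`, so `A B C = C B B C = 1`
  rw [← h1]
  have e : C * B * B * C = C * (B * B) * C := by group
  rw [e, hB, mul_one, hC]

/-- The main bound. -/
theorem card_le_of_rel [Finite Q] (a y : Q) (h : Rel a y)
    (hgen : Subgroup.closure ({a, y} : Set Q) = ⊤) : Nat.card Q ≤ 320 := by
  have hcen : ∀ z : Q, z * a = a * z → z * y = y * z → ∀ g : Q, z * g = g * z := by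
    intro z h1 h2 g
    have hle : Subgroup.closure ({a, y} : Set Q) ≤ Subgroup.centralizer {z} := by
      rw [Subgroup.closure_le]
      rintro x (rfl | rfl)
      · rw [SetLike.mem_coe, Subgroup.mem_centralizer_singleton_iff]
        exact h1.symm
      · rw [SetLike.mem_coe, Subgroup.mem_centralizer_singleton_iff]
        exact h2.symm
    have hg : g ∈ Subgroup.centralizer {z} := hle (by rw [hgen]; trivial)
    rw [Subgroup.mem_centralizer_singleton_iff] at hg
    exact hg.symm
  set A := a * a with hAdef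
  set B := bB a y with hBdef
  set C := cC a y with hCdef
  have hAc : ∀ g : Q, A * g = g * A := hcen A (by rw [hAdef]; group) h.Ay
  have hBc : ∀ g : Q, B * g = g * B := hcen B h.Ba h.By
  have hCc : ∀ g : Q, C * g = g * C := hcen C h.Ca h.Cy
  have hA : A * A = 1 := h.AA
  have hB : B * B = 1 := h.BB
  have hC : C * C = 1 := h.CC
  -- the conjugates
  set a1 := y * a * y⁻¹ with ha1
  set a2 := y * a1 * y⁻¹ with ha2
  set a3 := y * a2 * y⁻¹ with ha3
  set a4 := y * a3 * y⁻¹ with ha4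
  have ha5 : y * a4 * y⁻¹ = a := by
    have e : y * a4 * y⁻¹ = y ^ 5 * a * (y ^ 5)⁻¹ := by
      simp only [ha4, ha3, ha2, ha1, pow_succ, pow_zero, one_mul]
      group
    rw [e, h.y5]; simp
  have conj_central : ∀ z : Q, (∀ g : Q, z * g = g * z) → y * z * y⁻¹ = z := by
    intro z hz
    rw [← hz y, mul_assoc, mul_inv_cancel, mul_one]
  have conj_sq : ∀ u : Q, u * u = A → (y * u * y⁻¹) * (y * u * y⁻¹) = A := by
    intro u hu
    have e : (y * u * y⁻¹) * (y * u * y⁻¹) = y * (u * u) * y⁻¹ := by group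
    rw [e, hu, conj_central A hAc]
  have s0 : a * a = A := rfl
  have s1 := conj_sq a s0
  have s2 := conj_sq a1 s1
  have s3 := conj_sq a2 s2
  have s4 := conj_sq a3 s3
  have conj_cm : ∀ (z u v : Q), (∀ g : Q, z * g = g * z) → cm u v = z →
      cm (y * u * y⁻¹) (y * v * y⁻¹) = z := by
    intro z u v hz huv
    rw [cm_conj, huv, conj_central z hz]
  have c01 : cm a a1 = B := rfl
  have c12 := conj_cm B a a1 hBc c01
  have c23 := conj_cm B a1 a2 hBc c12
  have c34 := conj_cm B a2 a3 hBc c23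
  have c02 : cm a a2 = C := rfl
  have c13 := conj_cm C a a2 hCc c02
  have c24 := conj_cm C a1 a3 hCc c13
  have c35 := conj_cm C a2 a4 hCc c24
  rw [ha5] at c35
  have c10 := cm_symm _ _ _ c01 hB
  have c21 := cm_symm _ _ _ c12 hB
  have c32 := cm_symm _ _ _ c23 hB
  have c20 := cm_symm _ _ _ c02 hC
  have c31 := cm_symm _ _ _ c13 hC
  have hw : a * a1 * a2 * a3 * a4 = 1 := by
    have e : (a * y) ^ 5 = a * a1 * a2 * a3 * a4 * y ^ 5 := by
      simp only [ha4, ha3, ha2, ha1, pow_succ, pow_zero, one_mul]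
      group
    have := h.ay5
    rw [e, h.y5, mul_one] at this
    exact this
  have habc : A * B * C = 1 :=
    abc a a1 a2 a3 a4 A B C hBc hCc hA hB hC s0 s1 s2 s3 s4 c10 c20 c35 c21 c31 c32 hw
  have hCAB : C = B * A := by
    have : A * B * C = 1 := habc
    have e1 : A * B = (A * B)⁻¹ * (A * B) * (A * B) := by group
    have e2 : C = (A * B)⁻¹ := eq_inv_of_mul_eq_one_right habc
    rw [e2, mul_inv_rev]
    rw [inv_eq_of_mul_eq_one_left hB, inv_eq_of_mul_eq_one_left hA]
  -- the chain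
  let T0 : Subgroup Q := ⊥
  let T1 : Subgroup Q := T0 ⊔ Subgroup.zpowers A
  let T2 : Subgroup Q := T1 ⊔ Subgroup.zpowers B
  let T3 : Subgroup Q := T2 ⊔ Subgroup.zpowers a
  let T4 : Subgroup Q := T3 ⊔ Subgroup.zpowers a1
  let T5 : Subgroup Q := T4 ⊔ Subgroup.zpowers a2
  let T6 : Subgroup Q := T5 ⊔ Subgroup.zpowers a3
  let T7 : Subgroup Q := T6 ⊔ Subgroup.zpowers y
  have l01 : T0 ≤ T1 := le_sup_left
  have l12 : T1 ≤ T2 := le_sup_left
  have l23 : T2 ≤ T3 := le_sup_left
  have l34 : T3 ≤ T4 := le_sup_left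
  have l45 : T4 ≤ T5 := le_sup_left
  have l56 : T5 ≤ T6 := le_sup_left
  have l67 : T6 ≤ T7 := le_sup_left
  have mA : A ∈ T1 := (le_sup_right : Subgroup.zpowers A ≤ T1) (Subgroup.mem_zpowers A)
  have mB : B ∈ T2 := (le_sup_right : Subgroup.zpowers B ≤ T2) (Subgroup.mem_zpowers B)
  have ma : a ∈ T3 := (le_sup_right : Subgroup.zpowers a ≤ T3) (Subgroup.mem_zpowers a)
  have ma1 : a1 ∈ T4 := (le_sup_right : Subgroup.zpowers a1 ≤ T4) (Subgroup.mem_zpowers a1)
  have ma2 : a2 ∈ T5 := (le_sup_right : Subgroup.zpowers a2 ≤ T5) (Subgroup.mem_zpowers a2)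
  have ma3 : a3 ∈ T6 := (le_sup_right : Subgroup.zpowers a3 ≤ T6) (Subgroup.mem_zpowers a3)
  have my : y ∈ T7 := (le_sup_right : Subgroup.zpowers y ≤ T7) (Subgroup.mem_zpowers y)
  have mA2 : A ∈ T2 := l12 mA
  have mC : C ∈ T2 := by rw [hCAB]; exact T2.mul_mem mB mA2
  -- elements of `T2` are central
  have cenT2 : ∀ t ∈ T2, ∀ g : Q, t * g = g * t := by
    have hle : T2 ≤ Subgroup.center Q := by
      refine sup_le (sup_le bot_le ?_) ?_
      · rw [Subgroup.zpowers_le, Subgroup.mem_center_iff]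
        intro g; exact (hAc g).symm
      · rw [Subgroup.zpowers_le, Subgroup.mem_center_iff]
        intro g; exact (hBc g).symm
    intro t ht g
    exact ((Subgroup.mem_center_iff.mp (hle ht)) g).symm
  have T2inv : ∀ (h : Q) (U : Subgroup Q), T2 ≤ U → ∀ t ∈ T2, h * t * h⁻¹ ∈ U := by
    intro h U hU t ht
    rw [← cenT2 t ht h, mul_assoc, mul_inv_cancel, mul_one]
    exact hU ht
  -- conjugating through the chain: `x y x⁻¹ = [x, y] y`
  have conj_of_cm : ∀ (u v : Q) (U : Subgroup Q), cm u v ∈ U → v ∈ U → u * v * u⁻¹ ∈ U := by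
    intro u v U h1 h2
    have e : u * v * u⁻¹ = cm u v * v := by simp [cm]
    rw [e]
    exact U.mul_mem h1 h2
  have c1 : Nat.card T1 ≤ 2 := by
    have := card_sup_le T0 A 2 (by norm_num) (by rw [pow_two, hA]; exact T0.one_mem)
      (by intro t ht; rw [Subgroup.mem_bot.mp ht]; simp)
    calc Nat.card T1 ≤ 2 * Nat.card T0 := this
      _ = 2 := by simp [T0]
  have c2 : Nat.card T2 ≤ 4 := by
    have := card_sup_le T1 B 2 (by norm_num) (by rw [pow_two, hB]; exact T1.one_mem)
      (by intro t ht; rw [hBc t, mul_assoc, mul_inv_cancel, mul_one]; exact ht)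
    calc Nat.card T2 ≤ 2 * Nat.card T1 := this
      _ ≤ 4 := by omega
  have c3 : Nat.card T3 ≤ 8 := by
    have := card_sup_le T2 a 2 (by norm_num) (by rw [pow_two]; exact mA2)
      (T2inv a T2 le_rfl)
    calc Nat.card T3 ≤ 2 * Nat.card T2 := this
      _ ≤ 8 := by omega
  have c4 : Nat.card T4 ≤ 16 := by
    have := card_sup_le T3 a1 2 (by norm_num) (by rw [pow_two, s1]; exact l23 mA2)
      (conj_sup_mem a1 T2 T3 a (T2inv a1 T3 l23)
        (conj_of_cm _ _ _ (by rw [c10]; exact l23 mB) ma))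
    calc Nat.card T4 ≤ 2 * Nat.card T3 := this
      _ ≤ 16 := by omega
  have c5 : Nat.card T5 ≤ 32 := by
    have := card_sup_le T4 a2 2 (by norm_num) (by rw [pow_two, s2]; exact l34 (l23 mA2))
      (conj_sup_mem a2 T3 T4 a1
        (conj_sup_mem a2 T2 T4 a (T2inv a2 T4 (l23.trans l34))
          (conj_of_cm _ _ _ (by rw [c20]; exact l34 (l23 mC)) (l34 ma)))
        (conj_of_cm _ _ _ (by rw [c21]; exact l34 (l23 mB)) ma1))
    calc Nat.card T5 ≤ 2 * Nat.card T4 := this
      _ ≤ 32 := by omega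
  have c6 : Nat.card T6 ≤ 64 := by
    have := card_sup_le T5 a3 2 (by norm_num) (by rw [pow_two, s3]; exact l45 (l34 (l23 mA2)))
      (conj_sup_mem a3 T4 T5 a2
        (conj_sup_mem a3 T3 T5 a1
          (conj_sup_mem a3 T2 T5 a (T2inv a3 T5 (l23.trans (l34.trans l45)))
            (conj_of_cm _ _ _ (by rw [c35]; exact l45 (l34 (l23 mC))) (l45 (l34 ma))))
          (conj_of_cm _ _ _ (by rw [c31]; exact l45 (l34 (l23 mC))) (l45 ma1)))
        (conj_of_cm _ _ _ (by rw [c32]; exact l45 (l34 (l23 mB))) ma2))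
    calc Nat.card T6 ≤ 2 * Nat.card T5 := this
      _ ≤ 64 := by omega
  -- `a4` lies in `T6`
  have ma4 : a4 ∈ T6 := by
    have e : a4 = (a * a1 * a2 * a3)⁻¹ := eq_inv_of_mul_eq_one_right hw
    rw [e]
    refine T6.inv_mem (T6.mul_mem (T6.mul_mem (T6.mul_mem (l56 (l45 (l34 ma))) (l56 (l45 ma1)))
      (l56 ma2)) ma3)
  have c7 : Nat.card T7 ≤ 320 := by
    have := card_sup_le T6 y 5 (by norm_num) (by rw [h.y5]; exact T6.one_mem)
      (conj_sup_mem y T5 T6 a3
        (conj_sup_mem y T4 T6 a2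
          (conj_sup_mem y T3 T6 a1
            (conj_sup_mem y T2 T6 a (T2inv y T6 (l23.trans (l34.trans (l45.trans l56))))
              (l56 (l45 ma1)))
            (l56 ma2))
          ma3)
        ma4)
    calc Nat.card T7 ≤ 5 * Nat.card T6 := this
      _ ≤ 320 := by omega
  have htop : T7 = ⊤ := by
    rw [eq_top_iff, ← hgen, Subgroup.closure_le]
    rintro x (rfl | rfl)
    · exact l67 (l56 (l45 (l34 ma)))
    · exact my
  rw [htop] at c7
  simpa using c7

lemma surj_of_closure {S W : Type*} [Group S] [Group W] (φ : S →* W) (s t : S) (c d : W)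
    (hc : φ s = c) (hd : φ t = d) (hcd : Subgroup.closure ({c, d} : Set W) = ⊤) :
    Function.Surjective φ := by
  rw [← MonoidHom.range_eq_top, eq_top_iff, ← hcd, Subgroup.closure_le]
  rintro x (rfl | rfl)
  · exact ⟨s, hc⟩
  · exact ⟨t, hd⟩

/-- Two groups of order `320` with generating pairs satisfying the relations are isomorphic. -/
theorem nonempty_equiv_of_rel {X Y : Type*} [Group X] [Group Y] [Finite X] [Finite Y]
    (hX : Nat.card X = 320) (hY : Nat.card Y = 320) {a y : X} {b z : Y}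
    (h1 : Rel a y) (h2 : Rel b z) (g1 : Subgroup.closure ({a, y} : Set X) = ⊤)
    (g2 : Subgroup.closure ({b, z} : Set Y) = ⊤) : Nonempty (X ≃* Y) := by
  let α : X × Y := (a, b)
  let η : X × Y := (y, z)
  let S : Subgroup (X × Y) := Subgroup.closure {α, η}
  let αS : S := ⟨α, Subgroup.subset_closure (by simp)⟩
  let ηS : S := ⟨η, Subgroup.subset_closure (by simp)⟩
  let f : S →* X := (MonoidHom.fst X Y).comp S.subtype
  let g : S →* Y := (MonoidHom.snd X Y).comp S.subtype
  have hj : ∀ p q, f p = f q → g p = g q → p = q := fun p q h h' =>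
    Subtype.ext (Prod.ext h h')
  have hR : Rel αS ηS := rel_of_joint f g hj h1 h2
  have hgen : Subgroup.closure ({αS, ηS} : Set S) = ⊤ := by
    have h := Subgroup.closure_closure_coe_preimage (k := ({α, η} : Set (X × Y)))
    have e : ((↑) ⁻¹' ({α, η} : Set (X × Y)) : Set S) = {αS, ηS} := by
      ext x
      constructor
      · rintro (hx | hx)
        · exact Or.inl (Subtype.ext hx)
        · exact Or.inr (Subtype.ext hx)
      · rintro (rfl | rfl)
        · exact Or.inl rfl
        · exact Or.inr rfl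
    rw [e] at h
    exact h
  have hcard : Nat.card S ≤ 320 := card_le_of_rel αS ηS hR hgen
  have hf : Function.Surjective f := surj_of_closure f αS ηS a y rfl rfl g1
  have hg : Function.Surjective g := surj_of_closure g αS ηS b z rfl rfl g2
  have bf : Function.Bijective f := by
    refine ⟨?_, hf⟩
    exact ((Nat.bijective_iff_surjective_and_card f).mpr ⟨hf, le_antisymm hcard
      (by rw [← hX]; exact Nat.card_le_card_of_surjective f hf) |>.trans hX.symm⟩).1
  have bg : Function.Bijective g := by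
    refine ⟨?_, hg⟩
    exact ((Nat.bijective_iff_surjective_and_card g).mpr ⟨hg, le_antisymm hcard
      (by rw [← hY]; exact Nat.card_le_card_of_surjective g hg) |>.trans hY.symm⟩).1
  exact ⟨(MulEquiv.ofBijective f bf).symm.trans (MulEquiv.ofBijective g bg)⟩

end basics

end Cfsg.Agent.Lib.H1903
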